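import Groth.Agent.RelTilde.Sections
import Mathlib.RingTheory.Ideal.AssociatedPrime.Finiteness
import Mathlib.RingTheory.Regular.IsSMulRegular

/-!
# Graded modules: torsion is bounded, homogeneous elements regular modulo torsion
-/

universe u

open DirectSum

namespace Groth.GrSerre

open Groth.Ega2Proj (exists_bound_mem_irrelevant_pow)

variable {A σ : Type u} [CommRing A] [SetLike σ A] [AddSubgroupClass σ A] (𝒜 : ℕ → σ) [GradedRing 𝒜]
  {M τ : Type u} [AddCommGroup M] [Module A M] [SetLike τ M] [AddSubgroupClass τ M] (ℳ : ℕ → τ)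
  [SetLike.GradedSMul 𝒜 ℳ] [DirectSum.Decomposition ℳ]



/-- Elements all but finitely many components of which vanish. -/
theorem exists_decompose_bound (s : Finset M) :
    ∃ E : ℕ, ∀ m ∈ s, ∀ i, E < i → (decompose ℳ m i : M) = 0 := by
  classical
  refine ⟨s.sup fun m => (decompose ℳ m).support.sup id, fun m hm i hi => ?_⟩
  have : i ∉ (decompose ℳ m).support := fun h => absurd hi (not_lt.2
    ((Finset.le_sup (f := id) h).trans (Finset.le_sup (f := fun m => (decompose ℳ m).support.sup id) hm)))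
  rw [DFinsupp.notMem_support_iff.mp this, ZeroMemClass.coe_zero]

include 𝒜 in
/-- Components of high degree of a module killed into `V` by a power of the irrelevant ideal. -/
theorem exists_bound [IsNoetherianRing A] {Q : Submodule A M} (hQ : Q.FG) (V : AddSubgroup M)
    (k₀ : ℕ) (hV : ∀ v ∈ V, ∀ i, k₀ ≤ i → (decompose ℳ v i : M) ∈ V)
    (hQV : ∀ z ∈ Q, ∃ N : ℕ, ∀ a ∈ (HomogeneousIdeal.irrelevant 𝒜).toIdeal ^ N, a • z ∈ V) :
    ∃ K : ℕ, ∀ i, K ≤ i → ∀ z ∈ Q, (decompose ℳ z i : M) ∈ V := by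
  classical
  obtain ⟨s, rfl⟩ := hQ
  choose N hN using fun t : s => hQV t (Submodule.subset_span t.2)
  let N₀ := Finset.univ.sup N
  obtain ⟨E, hE⟩ := exists_decompose_bound ℳ s
  obtain ⟨D, -, hD⟩ := exists_bound_mem_irrelevant_pow 𝒜 (IsNoetherian.noetherian (HomogeneousIdeal.irrelevant 𝒜).toIdeal)
  refine ⟨max k₀ (E + 1 + N₀ * D), fun i hi z hz => ?_⟩
  obtain ⟨hi₀, hi₁⟩ := max_le_iff.1 hi
  suffices h : ∀ z ∈ Submodule.span A (s : Set M), ∀ c : A, (decompose ℳ (c • z) i : M) ∈ V by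
    simpa using h z hz 1
  intro z hz
  induction hz using Submodule.span_induction with
  | mem t ht =>
    intro c
    induction c using DirectSum.Decomposition.inductionOn 𝒜 with
    | zero => simp [V.zero_mem]
    | homogeneous b =>
      rename_i e
      by_cases he : N₀ * D ≤ e
      · have : ((b : A) • t) ∈ V := hN ⟨t, ht⟩ _
          (Ideal.pow_le_pow_right (Finset.le_sup (f := N) (Finset.mem_univ _)) (hD N₀ e he _ b.2))
        exact hV _ this i hi₀
      · rw [show i = e + (i - e) by omega, Groth.RelTilde.decompose_smul_of_mem_left 𝒜 ℳ b.2,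
          hE t ht _ (by omega), smul_zero]
        exact V.zero_mem
    | add x y hx hy =>
      rw [add_smul, decompose_add, DirectSum.add_apply, AddMemClass.coe_add]
      exact V.add_mem hx hy
  | zero => intro c; simp [V.zero_mem]
  | add x y _ _ hx hy =>
    intro c
    rw [smul_add, decompose_add, DirectSum.add_apply, AddMemClass.coe_add]
    exact V.add_mem (hx c) (hy c)
  | smul c x _ hx => intro c'; rw [smul_smul]; exact hx _

/-- Homogeneous avoidance of finitely many primes not containing the irrelevant ideal. -/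
theorem exists_avoid (P : Finset (Ideal A)) :
    (∀ p ∈ P, p.IsPrime ∧ ¬ (HomogeneousIdeal.irrelevant 𝒜).toIdeal ≤ p) → ∃ (d : ℕ) (f : A), 0 < d ∧ f ∈ 𝒜 d ∧ ∀ p ∈ P, f ∉ p := by
  classical
  induction P using Finset.strongInduction with
  | _ P ih =>
    intro hP
    rcases P.eq_empty_or_nonempty with rfl | ⟨p, hp⟩
    · exact ⟨1, 0, one_pos, zero_mem _, by simp⟩
    by_cases hone : P = {p}
    · subst hone
      by_contra h
      push Not at h
      refine (hP p hp).2 (Groth.Ega2Proj.irrelevant_le_ideal 𝒜 fun d hd a ha => ?_)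
      obtain ⟨q, hq, haq⟩ := h d a hd ha
      exact (Finset.mem_singleton.1 hq) ▸ haq
    -- each prime is missed after removing it
    have hsub : ∀ q ∈ P, ∃ (d : ℕ) (f : A), 0 < d ∧ f ∈ 𝒜 d ∧ ∀ r ∈ P.erase q, f ∉ r := fun q hq =>
      ih _ (Finset.erase_ssubset hq) fun r hr => hP r (Finset.mem_of_mem_erase hr)
    choose d f hd hf havoid using hsub
    by_cases hgood : ∃ q, ∃ hq : q ∈ P, f q hq ∉ q
    · obtain ⟨q, hq, hfq⟩ := hgood
      refine ⟨d q hq, f q hq, hd q hq, hf q hq, fun r hr => ?_⟩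
      by_cases hrq : r = q
      · subst hrq; exact hfq
      · exact havoid q hq r (Finset.mem_erase.2 ⟨hrq, hr⟩)
    push Not at hgood
    let E := (P.erase p).attach
    let g : A := ∏ q ∈ E, f q.1 (Finset.mem_of_mem_erase q.2)
    let eg : ℕ := ∑ q ∈ E, d q.1 (Finset.mem_of_mem_erase q.2)
    have hg : g ∈ 𝒜 eg := SetLike.prod_mem_graded 𝒜 _ _ fun q _ => hf q.1 _
    have hne : E.Nonempty := by
      rw [Finset.attach_nonempty_iff]
      by_contra h
      rw [Finset.not_nonempty_iff_eq_empty] at h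
      exact hone (by rw [← Finset.insert_erase hp, h]; rfl)
    have heg : 0 < eg := Finset.sum_pos (fun q _ => hd q.1 _) hne
    refine ⟨eg * d p hp, f p hp ^ eg + g ^ d p hp, Nat.mul_pos heg (hd p hp), add_mem ?_ ?_, fun r hr => ?_⟩
    · simpa [smul_eq_mul] using SetLike.pow_mem_graded eg (hf p hp)
    · simpa [smul_eq_mul, mul_comm] using SetLike.pow_mem_graded (d p hp) hg
    · have hrp := (hP r hr).1
      intro hmem
      by_cases hr' : r = p
      · subst hr'
        have h1 : g ^ d r hp ∈ r := by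
          simpa using r.sub_mem hmem (r.pow_mem_of_mem (hgood r hp) eg heg)
        obtain ⟨q, -, hq⟩ := (Ideal.IsPrime.prod_mem_iff).1 (hrp.mem_of_pow_mem _ h1)
        exact havoid q.1 _ r (Finset.mem_erase.2 ⟨fun e => (Finset.mem_erase.1 q.2).1 e.symm, hr⟩) hq
      · have hgr : g ∈ r := Ideal.IsPrime.prod_mem_iff.2
          ⟨⟨r, Finset.mem_erase.2 ⟨hr', hr⟩⟩, Finset.mem_attach _ _, hgood r hr⟩
        have h1 : f p hp ^ eg ∈ r := by
          simpa using r.sub_mem hmem (r.pow_mem_of_mem hgr (d p hp) (hd p hp))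
        exact havoid p hp r (Finset.mem_erase.2 ⟨hr', hr⟩) (hrp.mem_of_pow_mem _ h1)

/-- `z` is killed by a power of the irrelevant ideal. -/
def Tor (z : M) : Prop := ∃ N : ℕ, ∀ a ∈ (HomogeneousIdeal.irrelevant 𝒜).toIdeal ^ N, a • z = 0

theorem tor_of_generators [IsNoetherianRing A] {z : M}
    (h : ∀ (d : ℕ) (g : A), 0 < d → g ∈ 𝒜 d → ∃ N : ℕ, g ^ N • z = 0) : Tor 𝒜 z := by
  have hle : (HomogeneousIdeal.irrelevant 𝒜).toIdeal ≤ Ideal.radical (LinearMap.ker (LinearMap.toSpanSingleton A M z)) :=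
    Groth.Ega2Proj.irrelevant_le_ideal 𝒜 fun d hd a ha =>
      (h d a hd ha).imp fun N hN => by simpa using hN
  obtain ⟨N, hN⟩ := Ideal.exists_pow_le_of_le_radical_of_fg hle (IsNoetherian.noetherian _)
  exact ⟨N, fun a ha => by simpa using hN ha⟩

/-- A homogeneous element of positive degree regular modulo the irrelevant torsion. -/
theorem exists_regular [IsNoetherianRing A] {W : Submodule A M} (hW : W.FG) :
    ∃ (d : ℕ) (f : A), 0 < d ∧ f ∈ 𝒜 d ∧ ∀ z ∈ W, Tor 𝒜 (f • z) → Tor 𝒜 z := by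
  classical
  haveI : Module.Finite A W := Module.Finite.iff_fg.2 hW
  let T : Submodule A W :=
    { carrier := {z | Tor 𝒜 (z : M)}
      zero_mem' := ⟨0, fun a _ => by simp⟩
      add_mem' := fun {x y} ⟨N, hN⟩ ⟨N', hN'⟩ => ⟨N + N', fun a ha => by
        rw [Submodule.coe_add, smul_add, hN a (Ideal.pow_le_pow_right (Nat.le_add_right _ _) ha),
          hN' a (Ideal.pow_le_pow_right (Nat.le_add_left _ _) ha), add_zero]⟩
      smul_mem' := fun c x ⟨N, hN⟩ => ⟨N, fun a ha => by
        rw [Submodule.coe_smul, smul_smul, mul_comm, mul_smul, hN a ha, smul_zero]⟩ }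
  have hP : ∀ p ∈ (associatedPrimes.finite A (W ⧸ T)).toFinset, p.IsPrime ∧ ¬ (HomogeneousIdeal.irrelevant 𝒜).toIdeal ≤ p := by
    intro p hp
    rw [Set.Finite.mem_toFinset] at hp
    refine ⟨hp.isPrime, fun hle => ?_⟩
    obtain ⟨hpr, zb, hz⟩ := (isAssociatedPrime_iff_exists_injective_linearMap _ _).1 hp
    obtain ⟨z, hz1⟩ := Submodule.mkQ_surjective T (zb (Submodule.Quotient.mk 1))
    have hkill : ∀ a ∈ (HomogeneousIdeal.irrelevant 𝒜).toIdeal, Tor 𝒜 (a • (z : M)) := fun a ha => by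
      have h0 : zb (Submodule.Quotient.mk a) = 0 := by
        rw [(Submodule.Quotient.mk_eq_zero p).2 (hle ha), map_zero]
      have h1 : Submodule.Quotient.mk (p := T) (a • z) = 0 := by
        rw [Submodule.Quotient.mk_smul]
        change a • T.mkQ z = 0
        rw [hz1, ← map_smul, ← Submodule.Quotient.mk_smul, smul_eq_mul, mul_one, h0]
      exact (Submodule.Quotient.mk_eq_zero T).1 h1
    have hzT : z ∈ T := tor_of_generators 𝒜 fun d g hd hg => by
      obtain ⟨N, hN⟩ := hkill g (HomogeneousIdeal.mem_irrelevant_of_mem 𝒜 hd hg)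
      refine ⟨N + 1, ?_⟩
      rw [pow_succ, mul_smul]
      exact hN _ (Ideal.pow_mem_pow (HomogeneousIdeal.mem_irrelevant_of_mem 𝒜 hd hg) N)
    have h1 : zb (Submodule.Quotient.mk 1) = 0 :=
      hz1.symm.trans ((Submodule.Quotient.mk_eq_zero T).2 hzT)
    exact hpr.ne_top ((Ideal.eq_top_iff_one p).2
      ((Submodule.Quotient.mk_eq_zero p).1 (hz (h1.trans (map_zero zb).symm))))
  obtain ⟨d, f, hd, hf, hav⟩ := exists_avoid 𝒜 _ hP
  refine ⟨d, f, hd, hf, fun z hz htor => ?_⟩
  let z' : W := ⟨z, hz⟩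
  have hreg : IsSMulRegular (W ⧸ T) f := by
    by_contra hn
    have hmem : f ∈ ⋃ p ∈ associatedPrimes A (W ⧸ T), (p : Set A) := by
      rw [biUnion_associatedPrimes_eq_compl_regular A (W ⧸ T)]
      exact hn
    obtain ⟨p, hp, hfp⟩ := Set.mem_iUnion₂.1 hmem
    exact hav p ((Set.Finite.mem_toFinset _).2 hp) hfp
  have h0 : f • Submodule.Quotient.mk (p := T) z' = 0 := by
    rw [← Submodule.Quotient.mk_smul]
    exact (Submodule.Quotient.mk_eq_zero T).2 htor
  exact (Submodule.Quotient.mk_eq_zero T).1 (hreg (h0.trans (smul_zero f).symm))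

end Groth.GrSerre
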