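import Groth.Agent.CohTwo.GrSerre.Main

/-!
# Modules over rings generated in degree one: high pieces are generated by one piece
-/

universe u

open DirectSum TopologicalSpace Opposite CategoryTheory

namespace Groth.GrSerre

variable {A σ : Type u} [CommRing A] [SetLike σ A] [AddSubgroupClass σ A] (𝒜 : ℕ → σ) [GradedRing 𝒜]
  {M τ : Type u} [AddCommGroup M] [Module A M] [SetLike τ M] [AddSubgroupClass τ M] (ℳ : ℕ → τ)
  [SetLike.GradedSMul 𝒜 ℳ] [DirectSum.Decomposition ℳ]

theorem fracs_val_cast (n : ℕ) {z : ℤ} (hz : z = (n : ℤ)) (s : GrMod.sect 𝒜 ℳ z (op ⊤)) :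
    Fracs 𝒜 ℳ n (fun x => (s.1 ⟨x, trivial⟩).1) := by
  subst hz
  exact fracs_val 𝒜 ℳ n s

theorem mem_mul_one (hgen : (HomogeneousIdeal.irrelevant 𝒜).toIdeal = Ideal.span (𝒜 1 : Set A))
    {n : ℕ} {c : A} (hc : c ∈ 𝒜 (n + 1)) :
    c ∈ AddSubgroup.closure {z | ∃ a ∈ 𝒜 1, ∃ b ∈ 𝒜 n, a * b = z} := by
  classical
  suffices h : ∀ z ∈ Ideal.span (𝒜 1 : Set A), ∀ r : A,
      (decompose 𝒜 (r * z) (n + 1) : A) ∈
        AddSubgroup.closure {z | ∃ a ∈ 𝒜 1, ∃ b ∈ 𝒜 n, a * b = z} by
    have := h c (hgen ▸ HomogeneousIdeal.mem_irrelevant_of_mem 𝒜 n.succ_pos hc) 1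
    rwa [one_mul, decompose_of_mem_same 𝒜 hc] at this
  intro z hz
  induction hz using Submodule.span_induction with
  | mem a ha =>
    intro r
    refine AddSubgroup.subset_closure ⟨a, ha, (decompose 𝒜 r n : A), (decompose 𝒜 r n).2, ?_⟩
    rw [mul_comm r a, add_comm n 1, coe_decompose_mul_add_of_left_mem 𝒜 ha]
  | zero => intro r; simp [zero_mem]
  | add x y _ _ hx hy =>
    intro r
    rw [mul_add, decompose_add, DirectSum.add_apply, AddMemClass.coe_add]
    exact add_mem (hx r) (hy r)
  | smul s x _ hx => intro r; rw [smul_eq_mul, ← mul_assoc]; exact hx _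

theorem mem_mul (hgen : (HomogeneousIdeal.irrelevant 𝒜).toIdeal = Ideal.span (𝒜 1 : Set A)) :
    ∀ (p q : ℕ) {c : A}, c ∈ 𝒜 (p + q) →
      c ∈ AddSubgroup.closure {z | ∃ a ∈ 𝒜 p, ∃ b ∈ 𝒜 q, a * b = z} := by
  intro p
  induction p with
  | zero =>
    intro q c hc
    exact AddSubgroup.subset_closure ⟨1, SetLike.GradedOne.one_mem, c, by simpa using hc, one_mul c⟩
  | succ p ih =>
    intro q c hc
    have h := mem_mul_one 𝒜 hgen (n := p + q) (c := c) (by rwa [Nat.add_right_comm] at hc)
    clear hc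
    induction h using AddSubgroup.closure_induction with
    | mem z hz =>
      obtain ⟨a, ha, b, hb, rfl⟩ := hz
      have hb' := ih q hb
      clear hb
      induction hb' using AddSubgroup.closure_induction with
      | mem w hw =>
        obtain ⟨a', ha', b', hb', rfl⟩ := hw
        exact AddSubgroup.subset_closure ⟨a * a', (add_comm 1 p) ▸
          SetLike.mul_mem_graded ha ha', b', hb', mul_assoc a a' b'⟩
      | zero => rw [mul_zero]; exact zero_mem _
      | add x y _ _ hx hy => rw [mul_add]; exact add_mem hx hy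
      | neg x _ hx => rw [mul_neg]; exact neg_mem hx
    | zero => exact zero_mem _
    | add x y _ _ hx hy => exact add_mem hx hy
    | neg x _ hx => exact neg_mem hx

theorem decompose_smul_eq_zero {j n : ℕ} {c : A} (hc : c ∈ 𝒜 j) (h : n < j) (t : M) :
    (decompose ℳ (c • t) n : M) = 0 := by
  induction t using DirectSum.Decomposition.inductionOn ℳ with
  | zero => simp
  | homogeneous b =>
    rw [decompose_of_mem_ne ℳ (Groth.RelTilde.smul_mem 𝒜 ℳ hc b.2 rfl) (by omega)]
  | add x y hx hy => simp [smul_add, hx, hy]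

/-- Pieces beyond the degrees of generators are products with one piece. -/
theorem exists_generated (hgen : (HomogeneousIdeal.irrelevant 𝒜).toIdeal = Ideal.span (𝒜 1 : Set A))
    {k₀ : ℕ} (hW : (high (A := A) ℳ k₀).FG) :
    ∃ D : ℕ, ∀ k, D ≤ k → ∀ (e : ℕ), ∀ m ∈ ℳ (k + e),
      m ∈ AddSubgroup.closure {z | ∃ a ∈ 𝒜 e, ∃ b ∈ ℳ k, a • b = z} := by
  classical
  obtain ⟨s, hs⟩ := hW
  obtain ⟨D, hD⟩ := exists_decompose_bound ℳ s
  refine ⟨max k₀ D, fun k hk e m hm => ?_⟩
  obtain ⟨hk₀, hkD⟩ := max_le_iff.1 hk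
  suffices h : ∀ z ∈ Submodule.span A (s : Set M), ∀ r : A,
      (decompose ℳ (r • z) (k + e) : M) ∈
        AddSubgroup.closure {z | ∃ a ∈ 𝒜 e, ∃ b ∈ ℳ k, a • b = z} by
    have := h m (hs ▸ mem_high ℳ (show k₀ ≤ k + e by omega) hm) 1
    rwa [one_smul, decompose_of_mem_same ℳ hm] at this
  intro z hz
  induction hz using Submodule.span_induction with
  | mem t ht =>
    intro r
    induction r using DirectSum.Decomposition.inductionOn 𝒜 with
    | zero => simp [zero_mem]
    | homogeneous c =>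
      rename_i j
      by_cases hj : j ≤ k + e
      · obtain ⟨i, hi⟩ := Nat.exists_eq_add_of_le hj
        rw [hi, Groth.RelTilde.decompose_smul_of_mem_left 𝒜 ℳ c.2 t i]
        by_cases hiD : i ≤ D
        · have hc := mem_mul 𝒜 hgen e (j - e) (c := (c : A))
            (by rw [show e + (j - e) = j by omega]; exact c.2)
          generalize (c : A) = w₀ at hc ⊢
          induction hc using AddSubgroup.closure_induction with
          | mem w hw =>
            obtain ⟨a, ha, a', ha', rfl⟩ := hw
            exact AddSubgroup.subset_closure ⟨a, ha, a' • (decompose ℳ t i : M),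
              Groth.RelTilde.smul_mem 𝒜 ℳ ha' (decompose ℳ t i).2 (by omega), (mul_smul a a' _).symm⟩
          | zero => rw [zero_smul]; exact zero_mem _
          | add x y _ _ hx hy => rw [add_smul]; exact add_mem hx hy
          | neg x _ hx => rw [neg_smul]; exact neg_mem hx
        · rw [hD t ht i (by omega), smul_zero]; exact zero_mem _
      · rw [decompose_smul_eq_zero 𝒜 ℳ c.2 (by omega)]
        exact zero_mem _
    | add x y hx hy =>
      rw [add_smul, decompose_add, DirectSum.add_apply, AddMemClass.coe_add]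
      exact add_mem hx hy
  | zero => intro r; simp [zero_mem]
  | add x y _ _ hx hy =>
    intro r
    rw [smul_add, decompose_add, DirectSum.add_apply, AddMemClass.coe_add]
    exact add_mem (hx r) (hy r)
  | smul c x _ hx => intro r; rw [smul_smul]; exact hx _

end Groth.GrSerre
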