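import Groth.Agent.CohTwo.GrSerre.Bound

/-!
# A graded module agrees in high degree with the sections of its twists
-/

universe u

open DirectSum TopologicalSpace Opposite CategoryTheory

namespace Groth.GrSerre

open Groth.RelTilde (mk_eq_zero_iff exists_pow_smul_eq_zero)

variable {A σ : Type u} [CommRing A] [SetLike σ A] [AddSubgroupClass σ A] (𝒜 : ℕ → σ) [GradedRing 𝒜]
  {M τ : Type u} [AddCommGroup M] [Module A M] [SetLike τ M] [AddSubgroupClass τ M] (ℳ : ℕ → τ)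
  [SetLike.GradedSMul 𝒜 ℳ] [DirectSum.Decomposition ℳ]

/-- The submodule generated in degrees at least `k`. -/
def high (k : ℕ) : Submodule A M := Submodule.span A (⋃ i ∈ Set.Ici k, (ℳ i : Set M))

theorem mem_high {k i : ℕ} (h : k ≤ i) {m : M} (hm : m ∈ ℳ i) : m ∈ high (A := A) ℳ k :=
  Submodule.subset_span (Set.mem_iUnion₂.mpr ⟨i, h, hm⟩)

/-- A family of values given on each standard open by one fraction of degree `n`. -/
def Fracs (n : ℕ) (v : ∀ x : ProjectiveSpectrum 𝒜, GrMod.LocMod 𝒜 (M := M) x) : Prop :=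
  ∀ (e : ℕ) (g : A), 0 < e → g ∈ 𝒜 e → ∃ (c i : ℕ) (a : M), a ∈ ℳ i ∧ i = c * e + n ∧
    ∀ (x : ProjectiveSpectrum 𝒜) (hx : g ∉ x.asHomogeneousIdeal),
      v x = LocalizedModule.mk a (⟨g ^ c, fun h => hx (x.isPrime.mem_of_pow_mem c h)⟩ :
        x.asHomogeneousIdeal.toIdeal.primeCompl)

theorem pow_mem {d : ℕ} {f : A} (hf : f ∈ 𝒜 d) (j : ℕ) : f ^ j ∈ 𝒜 (j * d) := by
  simpa [smul_eq_mul] using SetLike.pow_mem_graded j hf

theorem Fracs.smul {n d : ℕ} {f : A} (hf : f ∈ 𝒜 d)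
    {v : ∀ x : ProjectiveSpectrum 𝒜, GrMod.LocMod 𝒜 (M := M) x} (hv : Fracs 𝒜 ℳ n v) :
    Fracs 𝒜 ℳ (d + n) (fun x => f • v x) := by
  intro e g he hg
  obtain ⟨c, i, a, ha, hi, hval⟩ := hv e g he hg
  refine ⟨c, d + i, f • a, Groth.RelTilde.smul_mem 𝒜 ℳ hf ha rfl, by omega, fun x hx => ?_⟩
  change f • v x = _
  rw [hval x hx, LocalizedModule.smul'_mk]

theorem exists_homogeneous_notMem_point (x : ProjectiveSpectrum 𝒜) :
    ∃ (e : ℕ) (g : A), 0 < e ∧ g ∈ 𝒜 e ∧ g ∉ x.asHomogeneousIdeal := by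
  by_contra hc
  push Not at hc
  exact x.not_irrelevant_le (Groth.Ega2Proj.irrelevant_le_ideal 𝒜 fun d hd a ha => hc d a hd ha)

section

variable [IsNoetherianRing A] {k₀ : ℕ} (hW : (high (A := A) ℳ k₀).FG)

include hW in
/-- Elements of high degree vanishing at every point are zero. -/
theorem exists_injective : ∃ B : ℕ, k₀ ≤ B ∧ ∀ n, B ≤ n → ∀ m ∈ ℳ n,
    (∀ x : ProjectiveSpectrum 𝒜, (LocalizedModule.mk m 1 : GrMod.LocMod 𝒜 (M := M) x) = 0) →
      m = 0 := by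
  classical
  haveI : Module.Finite A (high (A := A) ℳ k₀) := Module.Finite.iff_fg.2 hW
  let Q : Submodule A (high (A := A) ℳ k₀) :=
    { carrier := {z | Tor 𝒜 (z : M)}
      zero_mem' := ⟨0, fun a _ => by simp⟩
      add_mem' := fun {x y} ⟨N, hN⟩ ⟨N', hN'⟩ => ⟨N + N', fun a ha => by
        rw [Submodule.coe_add, smul_add, hN a (Ideal.pow_le_pow_right (Nat.le_add_right _ _) ha),
          hN' a (Ideal.pow_le_pow_right (Nat.le_add_left _ _) ha), add_zero]⟩
      smul_mem' := fun c x ⟨N, hN⟩ => ⟨N, fun a ha => by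
        rw [Submodule.coe_smul, smul_smul, mul_comm, mul_smul, hN a ha, smul_zero]⟩ }
  obtain ⟨K, hK⟩ := exists_bound 𝒜 ℳ
    ((IsNoetherian.noetherian Q).map (high (A := A) ℳ k₀).subtype) ⊥ 0
    (fun v hv i _ => by rw [AddSubgroup.mem_bot.1 hv]; simp)
    (fun z hz => by
      obtain ⟨q, ⟨N, hN⟩, rfl⟩ := Submodule.mem_map.1 hz
      exact ⟨N, fun a ha => AddSubgroup.mem_bot.2 (hN a ha)⟩)
  refine ⟨max k₀ K, le_max_left _ _, fun n hn m hm h0 => ?_⟩
  have htor : Tor 𝒜 m := tor_of_generators 𝒜 fun d g hd hg =>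
    exists_pow_smul_eq_zero 𝒜 ℳ hd hg hm fun x _ => (mk_eq_zero_iff 𝒜).1 (h0 x)
  have hmem : m ∈ Q.map (high (A := A) ℳ k₀).subtype :=
    ⟨⟨m, mem_high ℳ ((le_max_left _ _).trans hn) hm⟩, htor, rfl⟩
  have h := AddSubgroup.mem_bot.1 (hK n ((le_max_right _ _).trans hn) m hmem)
  rwa [decompose_of_mem_same ℳ hm] at h

include hW in
/-- Values in high degree come from the module. -/
theorem exists_surjective : ∃ B : ℕ, ∀ n, B ≤ n → ∀ v, Fracs 𝒜 ℳ n v →
    ∃ m ∈ ℳ n, ∀ x : ProjectiveSpectrum 𝒜, v x = LocalizedModule.mk m 1 := by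
  classical
  haveI : Module.Finite A (high (A := A) ℳ k₀) := Module.Finite.iff_fg.2 hW
  obtain ⟨d, f, hd, hf, hreg⟩ := exists_regular 𝒜 hW
  let W := high (A := A) ℳ k₀
  let V : Submodule A M := W.map (LinearMap.lsmul A M f)
  let Q : Submodule A W :=
    { carrier := {z | ∃ N : ℕ, ∀ a ∈ (HomogeneousIdeal.irrelevant 𝒜).toIdeal ^ N, a • (z : M) ∈ V}
      zero_mem' := ⟨0, fun a _ => by simp⟩
      add_mem' := fun {x y} ⟨N, hN⟩ ⟨N', hN'⟩ => ⟨N + N', fun a ha => by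
        rw [Submodule.coe_add, smul_add]
        exact V.add_mem (hN a (Ideal.pow_le_pow_right (Nat.le_add_right _ _) ha))
          (hN' a (Ideal.pow_le_pow_right (Nat.le_add_left _ _) ha))⟩
      smul_mem' := fun c x ⟨N, hN⟩ => ⟨N, fun a ha => by
        rw [Submodule.coe_smul, smul_smul, mul_comm, mul_smul]
        exact V.smul_mem c (hN a ha)⟩ }
  obtain ⟨K, hK⟩ := exists_bound 𝒜 ℳ ((IsNoetherian.noetherian Q).map W.subtype) V.toAddSubgroup
    (d + k₀)
    (fun v hv i hi => by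
      obtain ⟨w, hw, rfl⟩ := Submodule.mem_map.1 hv
      obtain ⟨j, rfl⟩ : ∃ j, i = d + j := ⟨i - d, by omega⟩
      refine Submodule.mem_map.2 ⟨_, mem_high ℳ (show k₀ ≤ j by omega) (decompose ℳ w j).2, ?_⟩
      exact (Groth.RelTilde.decompose_smul_of_mem_left 𝒜 ℳ hf w j).symm)
    (fun z hz => by
      obtain ⟨q, hq, rfl⟩ := Submodule.mem_map.1 hz
      exact hq)
  -- division by `f`
  have step : ∀ n, max k₀ K ≤ n → ∀ v, Fracs 𝒜 ℳ n v → ∀ m ∈ ℳ (d + n),
      (∀ x, f • v x = LocalizedModule.mk m 1) →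
      ∃ m' ∈ ℳ n, ∀ x : ProjectiveSpectrum 𝒜, v x = LocalizedModule.mk m' 1 := by
    intro n hn v hv m hm heq
    obtain ⟨hnk, hnK⟩ := max_le_iff.1 hn
    have hmW : m ∈ W := mem_high ℳ (by omega) hm
    have hle : (HomogeneousIdeal.irrelevant 𝒜).toIdeal ≤
        Ideal.radical (Submodule.comap (LinearMap.toSpanSingleton A M m) V) := by
      refine Groth.Ega2Proj.irrelevant_le_ideal 𝒜 fun e he g hg => ?_
      obtain ⟨c, i, a, ha, hi, hval⟩ := hv e g he hg
      obtain ⟨N, hN⟩ := exists_pow_smul_eq_zero 𝒜 ℳ he hg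
        (sub_mem (Groth.RelTilde.smul_mem 𝒜 ℳ (pow_mem 𝒜 hg c) hm
          (show c * e + (d + n) = d + i by omega)) (Groth.RelTilde.smul_mem 𝒜 ℳ hf ha rfl))
        fun x hx => by
          have h1 := heq x
          rw [hval x hx, LocalizedModule.smul'_mk, LocalizedModule.mk_eq] at h1
          obtain ⟨u, hu⟩ := h1
          simp only [Submonoid.smul_def, OneMemClass.coe_one, one_smul] at hu
          exact ⟨u, u.2, by rw [smul_sub, hu, sub_self]⟩
      refine ⟨N + c, ?_⟩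
      rw [smul_sub, sub_eq_zero, smul_smul, ← pow_add] at hN
      refine Submodule.mem_map.2 ⟨g ^ N • a, W.smul_mem _ (mem_high ℳ (by omega) ha), ?_⟩
      simp only [LinearMap.lsmul_apply, LinearMap.toSpanSingleton_apply]
      rw [hN, smul_comm]
    obtain ⟨N, hN⟩ := Ideal.exists_pow_le_of_le_radical_of_fg hle (IsNoetherian.noetherian _)
    have h1 := hK (d + n) (by omega) m ⟨⟨m, hmW⟩, ⟨N, fun a ha => hN ha⟩, rfl⟩
    rw [decompose_of_mem_same ℳ hm] at h1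
    obtain ⟨w, hw, hwm⟩ := Submodule.mem_map.1 h1
    refine ⟨_, (decompose ℳ w n).2, fun x => ?_⟩
    have hfm : f • (decompose ℳ w n : M) = m := by
      rw [← Groth.RelTilde.decompose_smul_of_mem_left 𝒜 ℳ hf w n,
        show f • w = m from hwm, decompose_of_mem_same ℳ hm]
    obtain ⟨e, g, he, hg, hgx⟩ := exists_homogeneous_notMem_point 𝒜 x
    obtain ⟨c, i, a, ha, hi, hval⟩ := hv e g he hg
    let z : M := a - g ^ c • (decompose ℳ w n : M)
    have hz : z ∈ ℳ i := sub_mem ha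
      (Groth.RelTilde.smul_mem 𝒜 ℳ (pow_mem 𝒜 hg c) (decompose ℳ w n).2 hi.symm)
    obtain ⟨N', hN'⟩ := exists_pow_smul_eq_zero 𝒜 ℳ he hg
      (Groth.RelTilde.smul_mem 𝒜 ℳ hf hz rfl) fun y hy => by
        have h2 := heq y
        rw [hval y hy, LocalizedModule.smul'_mk, LocalizedModule.mk_eq] at h2
        obtain ⟨u, hu⟩ := h2
        simp only [Submonoid.smul_def, OneMemClass.coe_one, one_smul] at hu
        refine ⟨u, u.2, ?_⟩
        simp only [z, smul_sub]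
        rw [smul_comm f (g ^ c), hfm, hu, sub_self]
    obtain ⟨N'', hN''⟩ := hreg (g ^ N' • z) (W.smul_mem _ (mem_high ℳ (by omega) hz))
      ⟨0, fun b _ => by rw [smul_comm f (g ^ N'), hN', smul_zero]⟩
    have h3 := hN'' _ (Ideal.pow_mem_pow (HomogeneousIdeal.mem_irrelevant_of_mem 𝒜 he hg) N'')
    rw [hval x hgx, LocalizedModule.mk_eq]
    refine ⟨⟨g ^ N'' * g ^ N', x.asHomogeneousIdeal.toIdeal.primeCompl.mul_mem
      (_root_.pow_mem hgx N'') (_root_.pow_mem hgx N')⟩, ?_⟩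
    simp only [Submonoid.smul_def, OneMemClass.coe_one, one_smul]
    rw [← sub_eq_zero, ← smul_sub, mul_smul]
    exact h3
  refine ⟨max k₀ K, fun n hn v hv => ?_⟩
  -- some power of `f` carries the values into the module
  obtain ⟨j, m, hm, hjm⟩ : ∃ (j : ℕ) (m : M), m ∈ ℳ (j * d + n) ∧
      ∀ x, f ^ j • v x = LocalizedModule.mk m 1 := by
    obtain ⟨c₀, i₀, a, ha, hi₀, hfa⟩ := hv d f hd hf
    obtain ⟨E, hE, hspan⟩ := Groth.Ega2Proj.exists_homogeneous_generators_of_fg 𝒜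
      (IsNoetherian.noetherian _)
    have hex : ∀ g : E, ∃ L₀ : ℕ, ∀ L, L₀ ≤ L → ∀ x : ProjectiveSpectrum 𝒜,
        (g : A) ∉ x.asHomogeneousIdeal → f ^ (c₀ + L) • v x = LocalizedModule.mk (f ^ L • a) 1 := by
      rintro ⟨g, hgE⟩
      obtain ⟨e, he, hg⟩ := hE g hgE
      obtain ⟨c, i, b, hb, hi, hgb⟩ := hv e g he hg
      obtain ⟨N, hN⟩ := exists_pow_smul_eq_zero 𝒜 ℳ (Nat.add_pos_left he d)
        (SetLike.mul_mem_graded hg hf)
        (sub_mem (Groth.RelTilde.smul_mem 𝒜 ℳ (pow_mem 𝒜 hg c) ha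
          (show c * e + i₀ = c₀ * d + i by omega))
          (Groth.RelTilde.smul_mem 𝒜 ℳ (pow_mem 𝒜 hf c₀) hb rfl)) fun x hx => by
          have hgx : g ∉ x.asHomogeneousIdeal := fun h =>
            hx (x.asHomogeneousIdeal.toIdeal.mul_mem_right _ h)
          have hfx : f ∉ x.asHomogeneousIdeal := fun h =>
            hx (x.asHomogeneousIdeal.toIdeal.mul_mem_left _ h)
          obtain ⟨u, hu⟩ := LocalizedModule.mk_eq.1 ((hfa x hfx).symm.trans (hgb x hgx))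
          simp only [Submonoid.smul_def] at hu
          exact ⟨u, u.2, by rw [smul_sub, hu, sub_self]⟩
      refine ⟨N, fun L hL x hx => ?_⟩
      rw [hgb x hx, LocalizedModule.smul'_mk, LocalizedModule.mk_eq]
      refine ⟨⟨g ^ N, _root_.pow_mem (show g ∈ x.asHomogeneousIdeal.toIdeal.primeCompl from hx) N⟩, ?_⟩
      obtain ⟨L', rfl⟩ := Nat.exists_eq_add_of_le hL
      have h := congrArg (fun t => f ^ L' • t) hN
      simp only [smul_sub, smul_zero, sub_eq_zero, smul_smul] at h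
      simp only [Submonoid.smul_def, OneMemClass.coe_one, one_smul, smul_smul]
      refine Eq.trans ?_ (h.symm.trans ?_) <;> congr 1 <;> ring
    choose L₀ hL₀ using hex
    refine ⟨c₀ + Finset.univ.sup L₀, f ^ Finset.univ.sup L₀ • a,
      Groth.RelTilde.smul_mem 𝒜 ℳ (pow_mem 𝒜 hf _) ha (by rw [hi₀]; ring), fun x => ?_⟩
    obtain ⟨g, hg, hgx⟩ : ∃ g ∈ E, g ∉ x.asHomogeneousIdeal := by
      by_contra hc
      push Not at hc
      exact x.not_irrelevant_le (hspan.le.trans (Ideal.span_le.2 hc))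
    exact hL₀ ⟨g, hg⟩ _ (Finset.le_sup (Finset.mem_univ _)) x hgx
  induction j generalizing m with
  | zero =>
    rw [Nat.zero_mul, Nat.zero_add] at hm
    exact ⟨m, hm, fun x => by simpa using hjm x⟩
  | succ j ih =>
    obtain ⟨m', hm', h⟩ := step (j * d + n) (by omega) _
      (Fracs.smul 𝒜 ℳ (pow_mem 𝒜 hf j) hv) m (by rwa [← Nat.add_assoc, Nat.add_comm d, ← Nat.succ_mul])
      fun x => by rw [smul_smul, ← pow_succ']; exact hjm x
    exact ih m' hm' h

end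

/-- The values of a section. -/
theorem fracs_val (n : ℕ) (s : GrMod.sect 𝒜 ℳ (n : ℤ) (op ⊤)) :
    Fracs 𝒜 ℳ n (fun x => (s.1 ⟨x, trivial⟩).1) := by
  intro e g he hg
  obtain ⟨c, i, a, hi, hval⟩ := Groth.RelTilde.exists_frac 𝒜 ℳ (n : ℤ) he hg
    (GrMod.res 𝒜 ℳ (n : ℤ)
      (homOfLE (le_top : ProjectiveSpectrum.basicOpen 𝒜 g ≤ ⊤)).op s)
  exact ⟨c, i, a.1, a.2, by exact_mod_cast hi, fun x hx => hval ⟨x, hx⟩⟩

end Groth.GrSerre
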