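import Groth.Agent.CohTwo.GrSerre.RelUniform

/-!
# The bound over all affine opens
-/

universe u

open CategoryTheory AlgebraicGeometry Opposite TopologicalSpace DirectSum

set_option backward.isDefEq.respectTransparency.types false

noncomputable section

namespace Groth.GrSerre.RelUniform

open Groth.RelTw (Over exists_common)
open Groth.RelTilde (MT MT_mk MT_trans res_smul' res_res_apply res_decompose mk_eq_zero_iff exists_pow_smul_eq_zero)

variable {S : Scheme.{u}} {𝒮 : RelProj.QCGrAlg S} (ℳ : RelProj.GrModule 𝒮)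
  (hℳ : Coh.IsQCoh ((AMod.toOS 𝒮.toQCAlg).obj ℳ.mod)) [IsLocallyNoetherian S]
  (hft : ∀ (U : S.Opens) (_ : IsAffineOpen U), (𝒮.str.app (op U)).hom.FiniteType)

theorem sheaf_ext {ι : Type*} {V : S.Opens} (hV : IsAffineOpen V) (D : ι → S.Opens)
    (hD : ∀ i, IsAffineOpen (D i)) (hle : ∀ i, D i ≤ V) (hcov : V ≤ iSup D)
    {m m' : ℳ.mod.val.obj (op V)} (h : ∀ i, ℳ.res hV (hD i) (hle i) m = ℳ.res hV (hD i) (hle i) m') :
    m = m' :=
  TopCat.Sheaf.eq_of_locally_eq' (⟨ℳ.mod.val.presheaf, ℳ.mod.isSheaf⟩ : TopCat.Sheaf Ab.{u} S) D V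
    (fun i => homOfLE (hle i)) hcov m m' h

include hℳ hft in
theorem inj_all {n : ℕ}
    (h : ∀ z : S, ∃ (U : S.Opens) (hU : IsAffineOpen U), z ∈ U ∧ Inj ℳ U hU n)
    (V : S.Opens) (hV : IsAffineOpen V) : Inj ℳ V hV n := by
  intro m hm h0
  choose U hU hzU hi using h
  choose D hD hzD hrV hrU using fun z : V => exists_common hV (hU z.1) z.2 (hzU z.1)
  have hle : ∀ z, D z ≤ V := fun z => by obtain ⟨r, hr⟩ := hrV z; exact hr ▸ S.basicOpen_le r
  have hleU : ∀ z, D z ≤ U z.1 := fun z => by obtain ⟨r, hr⟩ := hrU z; exact hr ▸ S.basicOpen_le r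
  refine sheaf_ext ℳ hV D hD hle (fun y hy => Opens.mem_iSup.2 ⟨⟨y, hy⟩, hzD ⟨y, hy⟩⟩) fun z => ?_
  rw [map_zero]
  refine inj_basic ℳ hℳ hft (hrU z) (hleU z) (hi z.1) _ (ℳ.res_mem hV (hD z) (hle z) n m hm) fun y => ?_
  obtain ⟨x, hxy⟩ := exists_over (hU := hV) (hle := hle z) (hrV z) y
  have h1 := congrArg (MT ℳ hxy) (h0 x)
  rw [MT_mk, map_zero] at h1
  refine Eq.trans ?_ h1
  exact congrArg _ (Subtype.ext (map_one _).symm)

/-- The element `b` has the values of `v` on a basic open. -/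
def Fits {V : S.Opens} (hV : IsAffineOpen V) (v : Vals ℳ V hV) {D : S.Opens} (hD : IsAffineOpen D)
    (hle : D ≤ V) (b : ℳ.mod.val.obj (op D)) : Prop :=
  ∀ x y (h : Over hV hD hle x y), MT ℳ h (v x) = LocalizedModule.mk b 1

theorem Fits.res {V D D' : S.Opens} {hV : IsAffineOpen V} {hD : IsAffineOpen D} (hD' : IsAffineOpen D')
    {hle : D ≤ V} (hle' : D' ≤ D) (hr' : ∃ r : Γ(S, D), S.basicOpen r = D')
    {v : Vals ℳ V hV} {b : ℳ.mod.val.obj (op D)} (hb : Fits ℳ hV v hD hle b)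
    (hr : ∃ r : Γ(S, V), S.basicOpen r = D) :
    Fits ℳ hV v hD' (hle'.trans hle) (ℳ.res hD hD' hle' b) := by
  intro x z hxz
  obtain ⟨y, hyz⟩ := exists_over (hU := hD) (hle := hle') hr' z
  obtain ⟨x', hxy⟩ := exists_over (hU := hV) (hle := hle) hr y
  obtain rfl : x = x' := hxz.eq (hxy.trans hyz)
  rw [← MT_trans ℳ hxy hyz hxz, hb x y hxy, MT_mk]
  exact congrArg _ (Subtype.ext (map_one _))

include hℳ hft in
theorem surj_all {n : ℕ}
    (h : ∀ z : S, ∃ (U : S.Opens) (hU : IsAffineOpen U), z ∈ U ∧ Inj ℳ U hU n ∧ Surj ℳ U hU n)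
    (V : S.Opens) (hV : IsAffineOpen V) : Surj ℳ V hV n := by
  classical
  have hinj : ∀ (W : S.Opens) (hW : IsAffineOpen W), Inj ℳ W hW n :=
    inj_all ℳ hℳ hft fun z => let ⟨U, hU, hz, hi, _⟩ := h z; ⟨U, hU, hz, hi⟩
  intro v hv
  have hloc : ∀ z : V, ∃ (r : Γ(S, V)) (b : ℳ.mod.val.obj (op (S.basicOpen r))), z.1 ∈ S.basicOpen r ∧
      b ∈ ℳ.deg _ (hV.basicOpen r) n ∧ Fits ℳ hV v (hV.basicOpen r) (S.basicOpen_le r) b := fun z => by
    obtain ⟨U, hU, hzU, -, hs⟩ := h z.1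
    obtain ⟨D, hD, hzD, ⟨r, rfl⟩, hrU⟩ := exists_common hV hU z.2 hzU
    have hleU : S.basicOpen r ≤ U := by obtain ⟨r', hr'⟩ := hrU; exact hr' ▸ S.basicOpen_le r'
    obtain ⟨b, hb, hbv⟩ := surj_basic ℳ hℳ hft hrU hleU hs
      (fun y => MT ℳ (hU := hV) (hD := hV.basicOpen r) (hle := S.basicOpen_le r) (y := y)
        (x := ProjectiveSpectrum.comap (𝒮.res hV (hV.basicOpen r) (S.basicOpen_le r)) (𝒮.irrelevant_le_map V hV r) y) rfl
        (v _)) (fracs_res ℳ hℳ ⟨r, rfl⟩ (S.basicOpen_le r) v hv _ fun x y hxy => by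
          obtain rfl := hxy.eq (x' := ProjectiveSpectrum.comap (𝒮.res hV (hV.basicOpen r) (S.basicOpen_le r))
            (𝒮.irrelevant_le_map V hV r) y) rfl
          rfl)
    refine ⟨r, b, hzD, hb, fun x y hxy => ?_⟩
    obtain rfl := hxy.eq (x' := ProjectiveSpectrum.comap (𝒮.res hV (hV.basicOpen r) (S.basicOpen_le r))
      (𝒮.irrelevant_le_map V hV r) y) rfl
    exact hbv y
  choose r b hzr hb hfit using hloc
  -- the local elements agree on overlaps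
  have hcompat : ∀ z z' : V,
      ℳ.mod.val.presheaf.map ((S.basicOpen (r z)).infLELeft (S.basicOpen (r z'))).op (b z) =
        ℳ.mod.val.presheaf.map ((S.basicOpen (r z)).infLERight (S.basicOpen (r z'))).op (b z') := by
    intro z z'
    have hD'' : ∀ y : (S.basicOpen (r z) ⊓ S.basicOpen (r z') : S.Opens), ∃ t : Γ(S, V),
        y.1 ∈ S.basicOpen t ∧ S.basicOpen t ≤ S.basicOpen (r z) ⊓ S.basicOpen (r z') := fun y =>
      ⟨r z * r z', by rw [Scheme.basicOpen_mul]; exact y.2, by rw [Scheme.basicOpen_mul]⟩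
    choose t hyt htle using hD''
    refine TopCat.Sheaf.eq_of_locally_eq' (⟨ℳ.mod.val.presheaf, ℳ.mod.isSheaf⟩ : TopCat.Sheaf Ab.{u} S)
      (fun y => S.basicOpen (t y)) _ (fun y => homOfLE (htle y))
      (fun y hy => Opens.mem_iSup.2 ⟨⟨y, hy⟩, hyt ⟨y, hy⟩⟩) _ _ fun y => ?_
    have hle1 := (htle y).trans inf_le_left
    have hle2 := (htle y).trans inf_le_right
    have key : ∀ (w : V) (hle : S.basicOpen (t y) ≤ S.basicOpen (r w)),
        Fits ℳ hV v (hV.basicOpen (t y)) (S.basicOpen_le (t y))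
          (ℳ.res (hV.basicOpen (r w)) (hV.basicOpen (t y)) hle (b w)) := fun w hle =>
      Fits.res ℳ (hV.basicOpen (t y)) hle
        ⟨S.presheaf.map (homOfLE (S.basicOpen_le (r w))).op (t y), by
          rw [Scheme.basicOpen_res, inf_eq_right.2 hle]⟩ (hfit w) ⟨r w, rfl⟩
    have heq : ℳ.res (hV.basicOpen (r z)) (hV.basicOpen (t y)) hle1 (b z) =
        ℳ.res (hV.basicOpen (r z')) (hV.basicOpen (t y)) hle2 (b z') := by
      rw [← sub_eq_zero]
      refine hinj _ (hV.basicOpen (t y)) _ (sub_mem (ℳ.res_mem _ _ hle1 n _ (hb z))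
        (ℳ.res_mem _ _ hle2 n _ (hb z'))) fun w => ?_
      obtain ⟨x, hxw⟩ := exists_over (hU := hV) (hle := S.basicOpen_le (t y)) ⟨t y, rfl⟩ w
      have h12 := (key z hle1 x w hxw).symm.trans (key z' hle2 x w hxw)
      refine Eq.trans ((LocalizedModule.mkLinearMap _ (ℳ.mod.val.obj (op (S.basicOpen (t y))))).map_sub _ _) ?_
      exact sub_eq_zero.2 h12
    refine Eq.trans ?_ (heq.trans ?_)
    · rw [← ConcreteCategory.comp_apply, ← Functor.map_comp]; rfl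
    · rw [← ConcreteCategory.comp_apply, ← Functor.map_comp]; rfl
  obtain ⟨m, hm, -⟩ := TopCat.Sheaf.existsUnique_gluing'
    (⟨ℳ.mod.val.presheaf, ℳ.mod.isSheaf⟩ : TopCat.Sheaf Ab.{u} S) (fun z => S.basicOpen (r z)) V
    (fun z => homOfLE (S.basicOpen_le (r z)))
    (fun y hy => Opens.mem_iSup.2 ⟨⟨y, hy⟩, hzr ⟨y, hy⟩⟩) (fun z => b z) (fun z z' => hcompat z z')
  change ↑(ℳ.mod.val.obj (op V)) at m
  have hres : ∀ z, ℳ.res hV (hV.basicOpen (r z)) (S.basicOpen_le (r z)) m = b z := hm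
  have hmn : m ∈ ℳ.deg V hV n := by
    rw [sheaf_ext ℳ hV (fun z => S.basicOpen (r z)) (fun z => hV.basicOpen (r z))
      (fun z => S.basicOpen_le (r z)) (fun y hy => Opens.mem_iSup.2 ⟨⟨y, hy⟩, hzr ⟨y, hy⟩⟩)
      (m := m) (m' := (decompose (ℳ.deg V hV) m n : ℳ.mod.val.obj (op V))) fun z => by
        rw [res_decompose, hres, decompose_of_mem_same _ (hb z)]]
    exact (decompose (ℳ.deg V hV) m n).2
  refine ⟨m, hmn, fun x => ?_⟩
  obtain ⟨z, hz⟩ : ∃ z : V, (𝒮.str.app (op V)).hom (r z) ∉ x.asHomogeneousIdeal := by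
    by_contra hc
    push Not at hc
    have hspan : Ideal.span (Set.range r) = ⊤ := by
      refine hV.self_le_iSup_basicOpen_iff.1 fun y hy => ?_
      exact Opens.mem_iSup.2 ⟨⟨r ⟨y, hy⟩, Set.mem_range_self _⟩, hzr ⟨y, hy⟩⟩
    have h1 : (1 : Γ(S, V)) ∈ x.asHomogeneousIdeal.toIdeal.comap (𝒮.str.app (op V)).hom := by
      have : Ideal.span (Set.range r) ≤ x.asHomogeneousIdeal.toIdeal.comap (𝒮.str.app (op V)).hom :=
        Ideal.span_le.2 (by rintro _ ⟨w, rfl⟩; exact hc w)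
      exact this (hspan ▸ Submodule.mem_top)
    rw [Ideal.mem_comap, map_one] at h1
    exact GrMod.one_nin x h1
  obtain ⟨e, g, he, hg, hgx⟩ := exists_homogeneous_notMem_point (𝒮.deg V hV) x
  obtain ⟨p, i, a, ha, hi, hval⟩ := hv e g he hg
  let R := 𝒮.res hV (hV.basicOpen (r z)) (S.basicOpen_le (r z))
  obtain ⟨N, hN⟩ := exists_pow_smul_eq_zero (𝒮.deg _ (hV.basicOpen (r z))) (ℳ.deg _ (hV.basicOpen (r z))) he
    (R.map_mem hg) (sub_mem (ℳ.res_mem hV (hV.basicOpen (r z)) (S.basicOpen_le _) i a ha)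
      (Groth.RelTilde.smul_mem (𝒮.deg _ (hV.basicOpen (r z))) (ℳ.deg _ (hV.basicOpen (r z)))
        (pow_mem (𝒮.deg _ (hV.basicOpen (r z))) (R.map_mem hg) p) (hb z) hi.symm)) fun y hy => by
      obtain ⟨x', hxy⟩ := exists_over (hU := hV) (hle := S.basicOpen_le (r z)) ⟨r z, rfl⟩ y
      have h1 := hfit z x' y hxy
      rw [hval x' (map_notMem hxy hy), MT_mk, LocalizedModule.mk_eq] at h1
      obtain ⟨t, ht⟩ := h1
      simp only [Submonoid.smul_def, OneMemClass.coe_one, one_smul, map_pow] at ht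
      exact ⟨t, t.2, (smul_sub _ _ _).trans (sub_eq_zero.2 ht)⟩
  have hN' : R g ^ N • (ℳ.res hV (hV.basicOpen (r z)) (S.basicOpen_le _) a - R g ^ p • b z) = 0 := hN
  obtain ⟨l, hl⟩ := Groth.Divisors.exists_pow_smul_eq_zero hV hℳ (r z) (g ^ N • (a - g ^ p • m)) (by
    have : ℳ.res hV (hV.basicOpen (r z)) (S.basicOpen_le _) (g ^ N • (a - g ^ p • m)) = 0 := by
      rw [res_smul', map_sub, res_smul', hres, map_pow, map_pow]
      exact hN'
    exact this)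
  rw [hval x hgx, LocalizedModule.mk_eq]
  refine ⟨⟨(𝒮.str.app (op V)).hom (r z ^ l) * g ^ N, x.asHomogeneousIdeal.toIdeal.primeCompl.mul_mem ?_
    (_root_.pow_mem hgx N)⟩, ?_⟩
  · rw [map_pow]; exact _root_.pow_mem (show _ ∈ x.asHomogeneousIdeal.toIdeal.primeCompl from hz) l
  · simp only [Submonoid.smul_def, OneMemClass.coe_one, one_smul]
    rw [← sub_eq_zero, ← smul_sub, mul_smul]
    exact hl

include hℳ hft in
theorem exists_uniform [CompactSpace S] (hTF : ℳ.IsTF) :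
    ∃ N : ℕ, ∀ n, N ≤ n → ∀ (U : S.Opens) (hU : IsAffineOpen U), Inj ℳ U hU n ∧ Surj ℳ U hU n := by
  classical
  obtain ⟨k₀, hk₀⟩ := hTF
  have hloc : ∀ U : {U : S.Opens // IsAffineOpen U}, ∃ B, ∀ n, B ≤ n →
      Inj ℳ U.1 U.2 n ∧ Surj ℳ U.1 U.2 n := fun ⟨U, hU⟩ => by
    obtain ⟨hn, -⟩ := exists_gens hft U hU
    have hW : (high (A := 𝒮.presheaf.obj (op U)) (ℳ.deg U hU) k₀).FG := hk₀ U hU
    obtain ⟨B₁, -, h₁⟩ := exists_injective (𝒮.deg U hU) (ℳ.deg U hU) hW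
    obtain ⟨B₂, h₂⟩ := exists_surjective (𝒮.deg U hU) (ℳ.deg U hU) hW
    exact ⟨max B₁ B₂, fun n hn =>
      ⟨h₁ n ((le_max_left _ _).trans hn), h₂ n ((le_max_right _ _).trans hn)⟩⟩
  choose B hB using hloc
  choose U hU hzU using fun z : S => exists_isAffineOpen_mem_and_subset (x := z) (U := (⊤ : S.Opens)) trivial
  obtain ⟨T, hT⟩ := isCompact_univ.elim_finite_subcover (fun z : S => (U z : Set S)) (fun z => (U z).2)
    (fun z _ => Set.mem_iUnion.2 ⟨z, (hzU z).1⟩)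
  refine ⟨T.sup fun z => B ⟨U z, hU z⟩, fun n hn => ?_⟩
  have hcov : ∀ z : S, ∃ (W : S.Opens) (hW : IsAffineOpen W), z ∈ W ∧ Inj ℳ W hW n ∧ Surj ℳ W hW n :=
    fun z => by
    obtain ⟨w, hwT, hzw⟩ := Set.mem_iUnion₂.1 (hT (Set.mem_univ z))
    exact ⟨U w, hU w, hzw, hB ⟨U w, hU w⟩ n
      ((Finset.le_sup (f := fun z => B ⟨U z, hU z⟩) hwT).trans hn)⟩
  exact fun V hV => ⟨inj_all ℳ hℳ hft (fun z => let ⟨W, hW, hz, hi, _⟩ := hcov z; ⟨W, hW, hz, hi⟩) V hV,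
    surj_all ℳ hℳ hft hcov V hV⟩

end Groth.GrSerre.RelUniform
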