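import Groth.Agent.CohTwo.GrSerre.Generated
import Groth.Agent.RelTilde.Trans
import Mathlib.AlgebraicGeometry.Noetherian

/-!
# One bound for the comparison with sections over all affine opens of the base
-/

universe u

open CategoryTheory AlgebraicGeometry Opposite TopologicalSpace DirectSum

set_option backward.isDefEq.respectTransparency.types false

noncomputable section

namespace Groth.GrSerre.RelUniform

open Groth.RelTw (Over)
open Groth.RelTilde (MT MT_mk res_smul' exists_num_mod mk_eq_zero_iff exists_pow_smul_eq_zero)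

variable {S : Scheme.{u}} {𝒮 : RelProj.QCGrAlg S} (ℳ : RelProj.GrModule 𝒮)
  {U V D : S.Opens} {hU : IsAffineOpen U} {hV : IsAffineOpen V} {hD : IsAffineOpen D}
  {hle : D ≤ U}

/-- Families of values on one chart. -/
abbrev Vals (U : S.Opens) (hU : IsAffineOpen U) :=
  ∀ x : ProjectiveSpectrum (𝒮.deg U hU), GrMod.LocMod (𝒮.deg U hU) (M := ℳ.mod.val.obj (op U)) x

/-- Injectivity in degree `n`. -/
def Inj (U : S.Opens) (hU : IsAffineOpen U) (n : ℕ) : Prop :=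
  ∀ m ∈ ℳ.deg U hU n, (∀ x : ProjectiveSpectrum (𝒮.deg U hU),
    (LocalizedModule.mk m 1 : GrMod.LocMod (𝒮.deg U hU) (M := ℳ.mod.val.obj (op U)) x) = 0) → m = 0

/-- Surjectivity in degree `n`. -/
def Surj (U : S.Opens) (hU : IsAffineOpen U) (n : ℕ) : Prop :=
  ∀ v : Vals ℳ U hU, Fracs (𝒮.deg U hU) (ℳ.deg U hU) n v →
    ∃ m ∈ ℳ.deg U hU n, ∀ x, v x = LocalizedModule.mk m 1

theorem exists_gens [IsLocallyNoetherian S]
    (hft : ∀ (U : S.Opens) (_ : IsAffineOpen U), (𝒮.str.app (op U)).hom.FiniteType)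
    (U : S.Opens) (hU : IsAffineOpen U) :
    IsNoetherianRing (𝒮.presheaf.obj (op U)) ∧ ∃ E : Finset (𝒮.presheaf.obj (op U)),
      (∀ g ∈ E, ∃ e, 0 < e ∧ g ∈ 𝒮.deg U hU e) ∧
      ∀ x : ProjectiveSpectrum (𝒮.deg U hU), ∃ g ∈ E, g ∉ x.asHomogeneousIdeal := by
  haveI : IsNoetherianRing Γ(S, U) := IsLocallyNoetherian.component_noetherian ⟨U, hU⟩
  letI := (𝒮.str.app (op U)).hom.toAlgebra
  haveI : Algebra.FiniteType Γ(S, U) (𝒮.presheaf.obj (op U)) := hft U hU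
  haveI hn : IsNoetherianRing (𝒮.presheaf.obj (op U)) := Algebra.FiniteType.isNoetherianRing Γ(S, U) _
  obtain ⟨E, hE, hspan⟩ := Groth.Ega2Proj.exists_homogeneous_generators_of_fg (𝒮.deg U hU)
    (IsNoetherian.noetherian _)
  refine ⟨hn, E, hE, fun x => ?_⟩
  by_contra hc
  push Not at hc
  exact x.not_irrelevant_le (hspan.le.trans (Ideal.span_le.2 hc))

/-- The point below. -/
theorem exists_over (hr : ∃ r : Γ(S, U), S.basicOpen r = D) (y : ProjectiveSpectrum (𝒮.deg D hD)) :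
    ∃ x, Over hU hD hle x y := by
  obtain ⟨r, rfl⟩ := hr
  exact ⟨ProjectiveSpectrum.comap (𝒮.res hU hD hle) (𝒮.irrelevant_le_map U hU r) y, rfl⟩

theorem inverse_mem_zero {A σ : Type u} [CommRing A] [SetLike σ A] [AddSubgroupClass σ A] (𝒜 : ℕ → σ)
    [GradedRing 𝒜] {a : A} (ha : a ∈ 𝒜 0) (hu : IsUnit a) : ∃ w ∈ 𝒜 0, w * a = 1 := by
  classical
  obtain ⟨w, hw⟩ := hu.exists_left_inv
  refine ⟨_, (decompose 𝒜 w 0).2, ?_⟩
  have h := coe_decompose_mul_add_of_left_mem 𝒜 ha (b := w) (j := 0)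
  rw [mul_comm a w, hw, Nat.zero_add, decompose_of_mem_same 𝒜 SetLike.GradedOne.one_mem] at h
  rw [mul_comm, ← h]

theorem map_notMem {hD : IsAffineOpen D} {x : ProjectiveSpectrum (𝒮.deg U hU)}
    {y : ProjectiveSpectrum (𝒮.deg D hD)} (h : Over hU hD hle x y) {a : 𝒮.presheaf.obj (op U)}
    (ha : 𝒮.res hU hD hle a ∉ y.asHomogeneousIdeal) : a ∉ x.asHomogeneousIdeal :=
  fun hc => ha (h.le hc)

theorem res_pow_smul_mem {n : ℕ} {b : ℳ.mod.val.obj (op D)} (hb : b ∈ ℳ.deg D hD n)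
    {a : 𝒮.presheaf.obj (op D)} (ha : a ∈ 𝒮.deg D hD 0) (k : ℕ) : a ^ k • b ∈ ℳ.deg D hD n := by
  simpa using SetLike.GradedSMul.smul_mem (A := 𝒮.deg D hD) (B := ℳ.deg D hD)
    (SetLike.pow_mem_graded k ha) hb

section transfer

variable (hℳ : Coh.IsQCoh ((AMod.toOS 𝒮.toQCAlg).obj ℳ.mod))
  [IsLocallyNoetherian S]
  (hft : ∀ (U : S.Opens) (_ : IsAffineOpen U), (𝒮.str.app (op U)).hom.FiniteType)

include hℳ hft in
/-- Injectivity passes to basic opens. -/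
theorem inj_basic (hr : ∃ r : Γ(S, U), S.basicOpen r = D) (hle : D ≤ U) {n : ℕ}
    (hi : Inj ℳ U hU n) : Inj ℳ D hD n := by
  classical
  intro b hb h0
  obtain ⟨c, hc0, hcu, hz, -, hmd, -, -⟩ :=
    exists_num_mod (hU := hU) (hD := hD) (hle := hle) ℳ hℳ hr
  obtain ⟨a, k, ha, hab⟩ := hmd n b hb
  obtain ⟨-, E, hE, hcov⟩ := exists_gens hft U hU
  have hl : ∀ g : E, ∃ l N : ℕ, c ^ l • (g : 𝒮.presheaf.obj (op U)) ^ N • a = 0 := by
    rintro ⟨g, hg⟩
    obtain ⟨e, he, hge⟩ := hE g hg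
    obtain ⟨N, hN⟩ := exists_pow_smul_eq_zero (𝒮.deg D hD) (ℳ.deg D hD) he
      ((𝒮.res hU hD hle).map_mem hge) hb fun y _ => (mk_eq_zero_iff (𝒮.deg D hD)).1 (h0 y)
    obtain ⟨l, hl⟩ := hz (g ^ N • a) (by
      have hN' : 𝒮.res hU hD hle g ^ N • b = 0 := hN
      rw [res_smul', hab, map_pow, smul_comm, hN', smul_zero])
    exact ⟨l, N, hl⟩
  choose l N hlN using hl
  have hca : c ^ Finset.univ.sup l • a = 0 := hi _ (res_pow_smul_mem ℳ ha hc0 _) fun x => by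
    obtain ⟨g, hg, hgx⟩ := hcov x
    refine (mk_eq_zero_iff (𝒮.deg U hU)).2 ⟨g ^ N ⟨g, hg⟩, fun h => hgx (x.isPrime.mem_of_pow_mem _ h), ?_⟩
    obtain ⟨j, hj⟩ := Nat.exists_eq_add_of_le (Finset.le_sup (f := l) (Finset.mem_univ ⟨g, hg⟩))
    rw [hj, add_comm, pow_add, mul_smul, smul_comm, smul_comm (g ^ N ⟨g, hg⟩) (c ^ l ⟨g, hg⟩), hlN,
      smul_zero]
  have h := congrArg (ℳ.res hU hD hle) hca
  rw [map_zero, res_smul', hab, map_pow, smul_smul, ← pow_add] at h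
  exact (hcu.pow _).smul_eq_zero.1 h

include hℳ hft in
/-- Surjectivity passes to basic opens. -/
theorem surj_basic (hr : ∃ r : Γ(S, U), S.basicOpen r = D) (hle : D ≤ U) {n : ℕ}
    (hs : Surj ℳ U hU n) : Surj ℳ D hD n := by
  classical
  intro v hv
  obtain ⟨c, hc0, hcu, hz, -, hmd, -, -⟩ :=
    exists_num_mod (hU := hU) (hD := hD) (hle := hle) ℳ hℳ hr
  obtain ⟨-, E, hE, hcov⟩ := exists_gens hft U hU
  choose e he hge using fun g : E => hE g g.2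
  choose p i a ha hi hval using fun g : E =>
    hv (e g) (𝒮.res hU hD hle g) (he g) ((𝒮.res hU hD hle).map_mem (hge g))
  choose b k hb hba using fun g : E => hmd (i g) (a g) (ha g)
  let K := Finset.univ.sup k
  let β : E → ℳ.mod.val.obj (op U) := fun g => c ^ (K - k g) • b g
  have hβ : ∀ g, β g ∈ ℳ.deg U hU (i g) := fun g => res_pow_smul_mem ℳ (hb g) hc0 _
  have hβa : ∀ g, ℳ.res hU hD hle (β g) = 𝒮.res hU hD hle c ^ K • a g := fun g => by
    rw [res_smul', hba, map_pow, smul_smul, ← pow_add,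
      Nat.sub_add_cancel (Finset.le_sup (f := k) (Finset.mem_univ g))]
  have hpair : ∀ g : E × E, ∃ l N : ℕ, c ^ l • ((g.1 : 𝒮.presheaf.obj (op U)) * g.2) ^ N •
      ((g.2 : 𝒮.presheaf.obj (op U)) ^ p g.2 • β g.1 -
        (g.1 : 𝒮.presheaf.obj (op U)) ^ p g.1 • β g.2) = 0 := by
    rintro ⟨g, g'⟩
    let R := 𝒮.res hU hD hle
    obtain ⟨N, hN⟩ := exists_pow_smul_eq_zero (𝒮.deg D hD) (ℳ.deg D hD) (Nat.add_pos_left (he g) (e g'))
      (SetLike.mul_mem_graded (R.map_mem (hge g)) (R.map_mem (hge g')))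
      (sub_mem (Groth.RelTilde.smul_mem (𝒮.deg D hD) (ℳ.deg D hD) (pow_mem (𝒮.deg D hD) (R.map_mem (hge g')) (p g'))
        (ha g) (show p g' * e g' + i g = p g * e g + i g' by rw [hi g, hi g']; ring))
        (Groth.RelTilde.smul_mem (𝒮.deg D hD) (ℳ.deg D hD) (pow_mem (𝒮.deg D hD) (R.map_mem (hge g)) (p g))
          (ha g') rfl)) fun y hy => by
        have h1 : R g ∉ y.asHomogeneousIdeal := fun h =>
          hy (y.asHomogeneousIdeal.toIdeal.mul_mem_right _ h)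
        have h2 : R g' ∉ y.asHomogeneousIdeal := fun h =>
          hy (y.asHomogeneousIdeal.toIdeal.mul_mem_left _ h)
        obtain ⟨w, hw⟩ := LocalizedModule.mk_eq.1 ((hval g y h1).symm.trans (hval g' y h2))
        simp only [Submonoid.smul_def] at hw
        refine ⟨w, w.2, (smul_sub _ _ _).trans (sub_eq_zero.2 hw)⟩
    obtain ⟨l, hl⟩ := hz (((g : 𝒮.presheaf.obj (op U)) * g') ^ N •
      ((g' : 𝒮.presheaf.obj (op U)) ^ p g' • β g - (g : 𝒮.presheaf.obj (op U)) ^ p g • β g')) (by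
      have hN' : (R g * R g') ^ N • (R g' ^ p g' • a g - R g ^ p g • a g') = 0 := hN
      rw [res_smul', map_sub, res_smul' (hU := hU) (hD := hD) (hle := hle) ℳ _ (β g), hβa,
        res_smul' (hU := hU) (hD := hD) (hle := hle) ℳ _ (β g'), hβa, map_pow, map_pow, map_pow, map_mul]
      rw [smul_comm (R g' ^ p g'), smul_comm (R g ^ p g), ← smul_sub, smul_comm, hN', smul_zero])
    exact ⟨l, N, hl⟩
  choose l N hlN using hpair
  let L := Finset.univ.sup l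
  let γ : E → ℳ.mod.val.obj (op U) := fun g => c ^ L • β g
  have hγ : ∀ g, γ g ∈ ℳ.deg U hU (i g) := fun g => res_pow_smul_mem ℳ (hβ g) hc0 _
  choose g₀ hg₀ hg₀x using hcov
  let gx : ProjectiveSpectrum (𝒮.deg U hU) → E := fun x => ⟨g₀ x, hg₀ x⟩
  have hgx : ∀ x, (gx x : 𝒮.presheaf.obj (op U)) ∉ x.asHomogeneousIdeal := hg₀x
  have hfr : ∀ (g : E) (x : ProjectiveSpectrum (𝒮.deg U hU)) (hx : (g : 𝒮.presheaf.obj (op U)) ∉ x.asHomogeneousIdeal),
      (LocalizedModule.mk (γ (gx x)) ⟨(gx x : 𝒮.presheaf.obj (op U)) ^ p (gx x),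
          _root_.pow_mem (show (gx x : 𝒮.presheaf.obj (op U)) ∈ x.asHomogeneousIdeal.toIdeal.primeCompl from hgx x) _⟩ :
        GrMod.LocMod (𝒮.deg U hU) (M := ℳ.mod.val.obj (op U)) x) =
      LocalizedModule.mk (γ g) ⟨(g : 𝒮.presheaf.obj (op U)) ^ p g,
          _root_.pow_mem (show (g : 𝒮.presheaf.obj (op U)) ∈ x.asHomogeneousIdeal.toIdeal.primeCompl from hx) _⟩ := by
    intro g x hx
    refine LocalizedModule.mk_eq.2 ⟨⟨((gx x : 𝒮.presheaf.obj (op U)) * g) ^ N (gx x, g), _root_.pow_mem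
      (x.asHomogeneousIdeal.toIdeal.primeCompl.mul_mem (hgx x) hx) _⟩, ?_⟩
    simp only [Submonoid.smul_def]
    rw [← sub_eq_zero, ← smul_sub]
    obtain ⟨j, hj⟩ := Nat.exists_eq_add_of_le (Finset.le_sup (f := l) (Finset.mem_univ (gx x, g)))
    change _ • ((g : 𝒮.presheaf.obj (op U)) ^ p g • c ^ L • β (gx x) - _ • c ^ L • β g) = 0
    rw [smul_comm _ (c ^ L), smul_comm _ (c ^ L) (β g), ← smul_sub, smul_comm, show L = l (gx x, g) + j from hj,
      add_comm, pow_add, mul_smul, hlN, smul_zero]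
  let s : GrMod.sect (𝒮.deg U hU) (ℳ.deg U hU) (n : ℤ) (op ⊤) :=
    ⟨fun x => ⟨LocalizedModule.mk (γ (gx x.1)) ⟨(gx x.1 : 𝒮.presheaf.obj (op U)) ^ p (gx x.1),
        _root_.pow_mem (show (gx x.1 : 𝒮.presheaf.obj (op U)) ∈ x.1.asHomogeneousIdeal.toIdeal.primeCompl from hgx x.1) _⟩,
      Submodule.subset_span ⟨i (gx x.1), p (gx x.1) * e (gx x.1), ⟨γ _, hγ _⟩,
        ⟨_, pow_mem (𝒮.deg U hU) (hge (gx x.1)) _⟩, _, by rw [hi]; push_cast; ring, rfl⟩⟩,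
      fun x => ⟨ProjectiveSpectrum.basicOpen (𝒮.deg U hU) (gx x.1 : 𝒮.presheaf.obj (op U)), hgx x.1,
        homOfLE le_top, i (gx x.1), p (gx x.1) * e (gx x.1), ⟨γ _, hγ _⟩,
        ⟨_, pow_mem (𝒮.deg U hU) (hge (gx x.1)) _⟩, fun y h => y.2 (y.1.isPrime.mem_of_pow_mem _ h),
        Or.inl (by rw [hi]; push_cast; ring), fun y => hfr (gx x.1) y.1 y.2⟩⟩
  obtain ⟨m, hm, hms⟩ := hs _ (fracs_val (𝒮.deg U hU) (ℳ.deg U hU) n s)
  obtain ⟨w, hw0, hw₀⟩ := inverse_mem_zero (𝒮.deg D hD) ((𝒮.res hU hD hle).map_mem hc0) hcu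
  have hw : w * 𝒮.res hU hD hle c = 1 := hw₀
  refine ⟨w ^ (L + K) • ℳ.res hU hD hle m, res_pow_smul_mem ℳ (ℳ.res_mem hU hD hle n m hm) hw0 _,
    fun y => ?_⟩
  obtain ⟨x, hxy⟩ := exists_over (hU := hU) (hle := hle) hr y
  have hgy : 𝒮.res hU hD hle (gx x) ∉ y.asHomogeneousIdeal := hxy.notMem (hgx x)
  have h := congrArg (MT ℳ hxy) (hms x)
  simp only [s] at h
  rw [MT_mk, MT_mk] at h
  obtain ⟨t, ht⟩ := LocalizedModule.mk_eq.1 h
  rw [hval (gx x) y hgy, LocalizedModule.mk_eq]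
  refine ⟨t, ?_⟩
  simp only [γ, Submonoid.smul_def, OneMemClass.coe_one, one_smul, map_one, res_smul', hβa, map_pow,
    smul_smul] at ht ⊢
  have h2 := congrArg (fun q => w ^ (L + K) • q) ht
  simp only [smul_smul] at h2
  refine Eq.trans ?_ (h2.trans ?_) <;> congr 1
  · calc _ = (t : 𝒮.presheaf.obj (op D)) * (w * 𝒮.res hU hD hle c) ^ (L + K) := by rw [hw]; ring
      _ = _ := by ring
  · ring

include hℳ in
/-- Values restricted to a basic open form fractions. -/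
theorem fracs_res (hr : ∃ r : Γ(S, U), S.basicOpen r = D) (hle : D ≤ U) {n : ℕ}
    (v : Vals ℳ U hU) (hv : Fracs (𝒮.deg U hU) (ℳ.deg U hU) n v) (vD : Vals ℳ D hD)
    (hvD : ∀ x y (h : Over hU hD hle x y), vD y = MT ℳ h (v x)) :
    Fracs (𝒮.deg D hD) (ℳ.deg D hD) n vD := by
  intro e g he hg
  obtain ⟨c, hc0, hcu, -, -, -, hsd, -⟩ :=
    exists_num_mod (hU := hU) (hD := hD) (hle := hle) ℳ hℳ hr
  obtain ⟨g', k, hg', hgg⟩ := hsd e g hg
  obtain ⟨p, i, a, ha, hi, hval⟩ := hv e g' he hg'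
  obtain ⟨w, hw0, hw₀⟩ := inverse_mem_zero (𝒮.deg D hD) ((𝒮.res hU hD hle).map_mem hc0) hcu
  have hw : w * 𝒮.res hU hD hle c = 1 := hw₀
  refine ⟨p, i, w ^ (k * p) • ℳ.res hU hD hle a, res_pow_smul_mem ℳ (ℳ.res_mem hU hD hle i a ha) hw0 _, hi,
    fun y hy => ?_⟩
  obtain ⟨x, hxy⟩ := exists_over (hU := hU) (hle := hle) hr y
  have hx : g' ∉ x.asHomogeneousIdeal := map_notMem hxy fun h => hy (by
    rw [hgg] at h
    refine (y.isPrime.mem_or_mem h).resolve_right fun h2 => ?_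
    exact y.isPrime.ne_top (Ideal.eq_top_of_isUnit_mem _ (y.isPrime.mem_of_pow_mem k h2) hcu))
  rw [hvD x y hxy, hval x hx, MT_mk, LocalizedModule.mk_eq]
  refine ⟨1, ?_⟩
  simp only [Submonoid.smul_def, OneMemClass.coe_one, one_smul, map_pow, hgg, smul_smul]
  congr 1
  calc g ^ p = g ^ p * (w * 𝒮.res hU hD hle c) ^ (k * p) := by rw [hw]; ring
    _ = _ := by ring

end transfer

end Groth.GrSerre.RelUniform
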